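import Groth.Agent.FixFrob99.Powers
import Groth.Agent.MP99.Basic
import Mathlib.AlgebraicGeometry.Artinian
import Mathlib.AlgebraicGeometry.Morphisms.QuasiFinite
import Mathlib.RingTheory.Nakayama

/-!
Fixed points of correspondences twisted by a high power of Frobenius are discrete.
-/

set_option autoImplicit false
set_option linter.style.haveILetI false

universe u

open CategoryTheory CategoryTheory.Limits AlgebraicGeometry

namespace Groth.Agent.FixFrob99

open IsLocalRing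

theorem stalkMap_mem_pow {C : Scheme.{u}} (Fr : C ⟶ C) (z : C) (W : C.Opens) (hW : IsAffineOpen W)
    (hWW : W ≤ Fr ⁻¹ᵁ W) (hz : z ∈ W) (Q : ℕ)
    (hpow : ∀ s, ∃ r, Fr.appLE W W hWW s = r ^ Q)
    (g : C.presheaf.stalk (Fr.base z)) (hg : g ∈ maximalIdeal (C.presheaf.stalk (Fr.base z))) :
    Fr.stalkMap z g ∈ maximalIdeal (C.presheaf.stalk z) ^ Q := by
  let := TopCat.Presheaf.algebra_section_stalk C.presheaf (⟨Fr.base z, hWW hz⟩ : W)
  have := hW.isLocalization_stalk ⟨Fr.base z, hWW hz⟩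
  obtain ⟨⟨s, t⟩, hst⟩ := IsLocalization.surj (hW.primeIdealOf ⟨Fr.base z, hWW hz⟩).asIdeal.primeCompl g
  have key : ∀ s : Γ(C, W), ∃ r, Fr.stalkMap z (C.presheaf.germ W (Fr.base z) (hWW hz) s) = r ^ Q := by
    intro s
    obtain ⟨r, hr⟩ := hpow s
    refine ⟨C.presheaf.germ W z hz r, ?_⟩
    rw [← map_pow, ← hr, Scheme.Hom.appLE, CommRingCat.comp_apply, TopCat.Presheaf.germ_res_apply,
      Scheme.Hom.germ_stalkMap_apply]
  obtain ⟨r, hr⟩ := key s
  obtain ⟨r', hr'⟩ := key t.1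
  have ht : IsUnit (Fr.stalkMap z (C.presheaf.germ W (Fr.base z) (hWW hz) t.1)) :=
    (IsLocalization.map_units (C.presheaf.stalk (Fr.base z)) t).map _
  have hs : Fr.stalkMap z (C.presheaf.germ W (Fr.base z) (hWW hz) s) ∈ maximalIdeal (C.presheaf.stalk z) := by
    have : C.presheaf.germ W (Fr.base z) (hWW hz) s ∈ maximalIdeal (C.presheaf.stalk (Fr.base z)) := by
      rw [show C.presheaf.germ W (Fr.base z) (hWW hz) s = _ from hst.symm]
      exact Ideal.mul_mem_right _ _ hg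
    exact map_nonunit (Fr.stalkMap z).hom _ this
  rw [hr] at hs
  have hm := Ideal.pow_mem_pow (Ideal.IsPrime.mem_of_pow_mem inferInstance _ hs) Q
  rw [← hr] at hm
  have e : Fr.stalkMap z g * Fr.stalkMap z (C.presheaf.germ W (Fr.base z) (hWW hz) t.1) =
      Fr.stalkMap z (C.presheaf.germ W (Fr.base z) (hWW hz) s) := by
    rw [← map_mul]; exact congrArg _ hst
  rw [← e] at hm
  exact (Ideal.mul_unit_mem_iff_mem _ ht).mp hm

theorem mem_vanishingIdeal_singleton {X : Scheme.{u}} (x : X) (hx : IsClosed ({x} : Set X)) (V : X.affineOpens)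
    (hxV : x ∈ V.1) {f : Γ(X, V.1)} (hf : f ∈ (Scheme.IdealSheafData.vanishingIdeal ⟨{x}, hx⟩).ideal V) :
    X.presheaf.germ V.1 x hxV f ∈ maximalIdeal (X.presheaf.stalk x) := by
  rw [mem_maximalIdeal, mem_nonunits_iff]
  intro hu
  rw [← X.mem_basicOpen f x hxV] at hu
  have hp : (V.2.primeIdealOf ⟨x, hxV⟩) ∈ V.2.fromSpec ⁻¹' ({x} : Set X) := V.2.fromSpec_primeIdealOf _
  have h1 : f ∈ (V.2.primeIdealOf ⟨x, hxV⟩).asIdeal := (PrimeSpectrum.mem_vanishingIdeal _ _).mp hf _ hp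
  have h2 : V.2.primeIdealOf ⟨x, hxV⟩ ∈ PrimeSpectrum.basicOpen f := by
    rw [← V.2.fromSpec_preimage_basicOpen f]
    show V.2.fromSpec (V.2.primeIdealOf ⟨x, hxV⟩) ∈ X.basicOpen f
    rw [V.2.fromSpec_primeIdealOf]
    exact hu
  exact h2 h1

theorem finite_discrete {C C₀ X Fx : Scheme.{u}}
    (p : ℕ) [Fact p.Prime] {k₀ : Type u} [Field k₀] {K : Type u} [Field K] [Algebra k₀ K] [IsAlgClosed K]
    (f₀ : C₀ ⟶ Spec (CommRingCat.of k₀)) [LocallyOfFiniteType f₀] [QuasiCompact f₀] [FrobSch.IsCharP C₀ p]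
    (πC₀ : C ⟶ C₀) (πK : C ⟶ Spec (CommRingCat.of K))
    (hC : IsPullback πC₀ πK f₀ (Spec.map (CommRingCat.ofHom (algebraMap k₀ K))))
    (m : ℕ) (Fr : C ⟶ C)
    (hFr₀ : Fr ≫ πC₀ = πC₀ ≫ End.asHom (End.of (FrobSch.frob C₀ p) ^ m))
    (hFrK : Fr ≫ πK = πK)
    (pX : X ⟶ Spec (CommRingCat.of K)) [LocallyOfFiniteType pX]
    (c₁ c₂ : C ⟶ X) [LocallyQuasiFinite c₂] [LocallyOfFiniteType c₂]
    (hcomm : (Fr ≫ c₁) ≫ pX = c₂ ≫ pX) (d : ℕ) (hn : d < p ^ m)
    (hd : ∀ (x : X) (hx : IsClosed ({x} : Set X)),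
      ((Scheme.IdealSheafData.vanishingIdeal ⟨{x}, hx⟩).comap c₂).radical ^ d ≤
        (Scheme.IdealSheafData.vanishingIdeal ⟨{x}, hx⟩).comap c₂)
    (i : Fx ⟶ C) (δ : Fx ⟶ X) (hF : IsPullback i δ (pullback.lift (Fr ≫ c₁) c₂ hcomm) (pullback.diagonal pX)) :
    Finite Fx ∧ DiscreteTopology Fx := by
  haveI : LocallyOfFiniteType πK := MorphismProperty.of_isPullback (P := @LocallyOfFiniteType) hC ‹_›
  haveI : QuasiCompact πK := MorphismProperty.of_isPullback (P := @QuasiCompact) hC ‹_›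
  haveI : IsImmersion i := MorphismProperty.of_isPullback (P := @IsImmersion) hF.flip inferInstance
  haveI : IsLocallyNoetherian C := LocallyOfFiniteType.isLocallyNoetherian πK
  haveI : CompactSpace C := QuasiCompact.compactSpace_of_compactSpace πK
  haveI : IsNoetherian C := ⟨⟩
  haveI : IsLocallyNoetherian Fx := LocallyOfFiniteType.isLocallyNoetherian i
  haveI : JacobsonSpace Fx := LocallyOfFiniteType.jacobsonSpace (i ≫ πK)
  haveI : JacobsonSpace X := LocallyOfFiniteType.jacobsonSpace pX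
  -- the two ways of mapping a fixed point
  have hw : (i ≫ Fr) ≫ c₁ = i ≫ c₂ := by
    have e1 := congrArg (· ≫ pullback.fst pX pX) hF.w
    have e2 := congrArg (· ≫ pullback.snd pX pX) hF.w
    simp only [Category.assoc, pullback.lift_fst, pullback.lift_snd, pullback.diagonal_fst, pullback.diagonal_snd,
      Category.comp_id] at e1 e2
    rw [Category.assoc, e1, e2]
  -- the key: a power of the maximal ideal dies at every closed fixed point
  have key : ∀ w : Fx, IsClosed ({w} : Set Fx) →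
      maximalIdeal (Fx.presheaf.stalk w) ^ d = ⊥ := by
    intro w hwc
    let z := i.base w
    let x := c₂.base z
    have hx : IsClosed ({x} : Set X) := by
      have h1 : w ∈ closedPoints Fx := hwc
      have hloft : LocallyOfFiniteType (i ≫ c₂) := inferInstance
      exact Scheme.Hom.closePoints_subset_preimage_closedPoints (i ≫ c₂) h1
    have hx₁ : c₁.base (Fr.base z) = x := by
      have := congrArg (fun f : Fx ⟶ X => f.base w) hw
      simpa [z, x] using this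
    obtain ⟨V₀, hV₀, hxV, -⟩ := exists_isAffineOpen_mem_and_subset (x := x) (U := ⊤) trivial
    let V : X.affineOpens := ⟨V₀, hV₀⟩
    -- an affine neighbourhood meeting the fibre only in z
    obtain ⟨N, hN, hNz⟩ : ∃ N : Set C, IsOpen N ∧ N ∩ c₂.base ⁻¹' {x} = {z} := by
      have h := c₂.isDiscrete_preimage_singleton x
      obtain ⟨N, hN, hNz⟩ := (isDiscrete_iff_forall_exists_isOpen.mp h) z rfl
      exact ⟨N, hN, hNz⟩
    have hzN : z ∈ N := by
      have : z ∈ N ∩ c₂.base ⁻¹' {x} := hNz ▸ rfl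
      exact this.1
    obtain ⟨W₁, hW₁, hzW₁, hW₁s⟩ := exists_isAffineOpen_mem_and_subset (x := z)
      (U := ⟨N, hN⟩ ⊓ c₂ ⁻¹ᵁ V₀ ⊓ Fr ⁻¹ᵁ c₁ ⁻¹ᵁ V₀)
      ⟨⟨hzN, hxV⟩, show c₁.base (Fr.base z) ∈ V₀ from hx₁.symm ▸ hxV⟩
    have hWc₂ : W₁ ≤ c₂ ⁻¹ᵁ V₀ := fun y hy => (hW₁s hy).1.2
    have hWc₁ : W₁ ≤ Fr ⁻¹ᵁ c₁ ⁻¹ᵁ V₀ := fun y hy => (hW₁s hy).2
    set O := C.presheaf.stalk z with hO
    let a : Ideal O := RingHom.ker (i.stalkMap w).hom
    have hI : (((Scheme.IdealSheafData.vanishingIdeal ⟨{x}, hx⟩).comap c₂).ideal ⟨W₁, hW₁⟩) =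
        ((Scheme.IdealSheafData.vanishingIdeal ⟨{x}, hx⟩).ideal V).map (c₂.appLE V₀ W₁ hWc₂).hom :=
      MP99.ideal_comap _ c₂ V ⟨W₁, hW₁⟩ hWc₂
    let J := ((Scheme.IdealSheafData.vanishingIdeal ⟨{x}, hx⟩).comap c₂).ideal ⟨W₁, hW₁⟩
    let P := (hW₁.primeIdealOf ⟨z, hzW₁⟩).asIdeal
    -- the pullback of functions vanishing at x lands in a + m^Q
    have hJ : J.map (C.presheaf.germ W₁ z hzW₁).hom ≤ a ⊔ maximalIdeal O ^ (p ^ m) := by
      show (((Scheme.IdealSheafData.vanishingIdeal ⟨{x}, hx⟩).comap c₂).ideal ⟨W₁, hW₁⟩).map _ ≤ _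
      rw [hI, Ideal.map_map, Ideal.map_le_iff_le_comap]
      intro f hf
      rw [Ideal.mem_comap, RingHom.comp_apply]
      have hg := mem_vanishingIdeal_singleton x hx V hxV hf
      obtain ⟨V₁, hV₁, hzV₁, -⟩ := exists_isAffineOpen_mem_and_subset (x := πC₀.base z) (U := ⊤) trivial
      obtain ⟨hWa, hWW, hpow⟩ := appLE_mem_powers p hC m Fr hFr₀ hFrK V₁ hV₁
      have hxV' : c₁.base (Fr.base z) ∈ V₀ := hx₁.symm ▸ hxV
      have hg' : X.presheaf.germ V₀ (c₁.base (Fr.base z)) hxV' f ∈ maximalIdeal (X.presheaf.stalk (c₁.base (Fr.base z))) := by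
        rw [mem_maximalIdeal, mem_nonunits_iff, ← X.mem_basicOpen f _ hxV', hx₁, X.mem_basicOpen f _ hxV]
        exact hg
      have h1 := stalkMap_mem_pow Fr z _ hWa hWW hzV₁ (p ^ m) hpow _ (map_nonunit (c₁.stalkMap (Fr.base z)).hom _ hg')
      rw [Scheme.Hom.germ_stalkMap_apply, Scheme.Hom.germ_stalkMap_apply] at h1
      have h1' : C.presheaf.germ W₁ z hzW₁ ((Fr ≫ c₁).appLE V₀ W₁ hWc₁ f) ∈ maximalIdeal O ^ (p ^ m) := by
        rw [Scheme.Hom.appLE, CommRingCat.comp_apply, TopCat.Presheaf.germ_res_apply]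
        exact h1
      have h2 : (i.stalkMap w) (C.presheaf.germ W₁ z hzW₁ (c₂.appLE V₀ W₁ hWc₂ f)) =
          (i.stalkMap w) (C.presheaf.germ W₁ z hzW₁ ((Fr ≫ c₁).appLE V₀ W₁ hWc₁ f)) := by
        rw [Scheme.Hom.germ_stalkMap_apply i W₁ w hzW₁, Scheme.Hom.germ_stalkMap_apply i W₁ w hzW₁]
        congr 1
        rw [Scheme.Hom.app_eq_appLE, ← CommRingCat.comp_apply, ← CommRingCat.comp_apply, Scheme.Hom.appLE_comp_appLE,
          Scheme.Hom.appLE_comp_appLE]
        simp only [← Category.assoc, hw]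
      have h3 : C.presheaf.germ W₁ z hzW₁ (c₂.appLE V₀ W₁ hWc₂ f) -
          C.presheaf.germ W₁ z hzW₁ ((Fr ≫ c₁).appLE V₀ W₁ hWc₁ f) ∈ a :=
        RingHom.mem_ker.mpr (by rw [map_sub]; exact sub_eq_zero.mpr h2)
      have := Ideal.add_mem _ (Ideal.mem_sup_left h3 : _ ∈ a ⊔ maximalIdeal O ^ (p ^ m)) (Ideal.mem_sup_right h1')
      rwa [sub_add_cancel] at this
    -- quasi-finiteness
    have hrad : P.map (C.presheaf.germ W₁ z hzW₁).hom ≤ J.radical.map (C.presheaf.germ W₁ z hzW₁).hom := by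
      have hle : P ≤ J.radical := by
        rw [Ideal.radical_eq_sInf]
        refine le_sInf fun q ⟨hq, hqp⟩ => ?_
        haveI := hqp
        let y := hW₁.fromSpec ⟨q, hqp⟩
        have hyW : y ∈ W₁ := hW₁.range_fromSpec.le ⟨_, rfl⟩
        have hy : y ∈ ((Scheme.IdealSheafData.vanishingIdeal ⟨{x}, hx⟩).comap c₂).support := by
          show y ∈ ((Scheme.IdealSheafData.vanishingIdeal ⟨{x}, hx⟩).comap c₂).supportSet
          rw [Scheme.IdealSheafData.mem_supportSet_iff_of_mem (U := ⟨W₁, hW₁⟩) hyW, Scheme.mem_zeroLocus_iff]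
          intro g hg hyg
          have : (⟨q, hqp⟩ : PrimeSpectrum Γ(C, W₁)) ∈ PrimeSpectrum.basicOpen g := by
            rw [← hW₁.fromSpec_preimage_basicOpen g]; exact hyg
          exact this (hq hg)
        rw [Scheme.IdealSheafData.support_comap] at hy
        have hy' : c₂.base y = x := hy
        have hyz : y = z := by
          have : y ∈ ({z} : Set C) := hNz ▸ ⟨(hW₁s hyW).1.1, hy'⟩
          exact this
        have : (⟨q, hqp⟩ : PrimeSpectrum Γ(C, W₁)) = hW₁.primeIdealOf ⟨z, hzW₁⟩ :=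
          hW₁.fromSpec.isOpenEmbedding.injective (hyz.trans (hW₁.fromSpec_primeIdealOf ⟨z, hzW₁⟩).symm)
        exact (congrArg PrimeSpectrum.asIdeal this).ge
      exact Ideal.map_mono hle
    have hP : maximalIdeal O = P.map (C.presheaf.germ W₁ z hzW₁).hom := by
      let := TopCat.Presheaf.algebra_section_stalk C.presheaf (⟨z, hzW₁⟩ : W₁)
      haveI : IsLocalization.AtPrime O P := hW₁.isLocalization_stalk ⟨z, hzW₁⟩
      exact (IsLocalization.AtPrime.map_eq_maximalIdeal P O).symm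
    have hpowJ : J.radical ^ d ≤ J := by
      have := hd x hx ⟨W₁, hW₁⟩
      rwa [Scheme.IdealSheafData.ideal_pow, Pi.pow_apply, Scheme.IdealSheafData.radical_ideal] at this
    have h1 : maximalIdeal O ^ d ≤ a ⊔ maximalIdeal O ^ (p ^ m) := by
      calc maximalIdeal O ^ d ≤ (J.radical.map (C.presheaf.germ W₁ z hzW₁).hom) ^ d :=
            Ideal.pow_right_mono (hP.le.trans hrad) d
        _ = (J.radical ^ d).map (C.presheaf.germ W₁ z hzW₁).hom := (Ideal.map_pow _ _ _).symm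
        _ ≤ J.map (C.presheaf.germ W₁ z hzW₁).hom := Ideal.map_mono hpowJ
        _ ≤ _ := hJ
    have h2 : maximalIdeal O ^ d ≤ a ⊔ maximalIdeal O • maximalIdeal O ^ d := by
      refine h1.trans (sup_le_sup le_rfl ?_)
      rw [smul_eq_mul, ← pow_succ']
      exact Ideal.pow_le_pow_right hn
    have h3 : maximalIdeal O ^ d ≤ a :=
      Submodule.le_of_le_smul_of_le_jacobson_bot (IsNoetherian.noetherian _) (maximalIdeal_le_jacobson ⊥) h2
    have hsurj := i.stalkMap_surjective w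
    have hmap : (maximalIdeal O).map (i.stalkMap w).hom = maximalIdeal (Fx.presheaf.stalk w) := by
      refine le_antisymm (Ideal.map_le_iff_le_comap.mpr fun g hg => map_nonunit (i.stalkMap w).hom g hg) fun g hg => ?_
      obtain ⟨g', rfl⟩ := hsurj g
      exact Ideal.mem_map_of_mem _ fun hu => hg (hu.map (i.stalkMap w).hom)
    rw [← hmap, ← Ideal.map_pow, Ideal.map_eq_bot_iff_le_ker]
    exact h3
  haveI : IsLocallyArtinian Fx := ⟨fun U => by
    haveI : IsNoetherianRing Γ(Fx, U.1) := IsLocallyNoetherian.component_noetherian U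
    haveI : Ring.KrullDimLE 0 Γ(Fx, U.1) := Ring.KrullDimLE.mk₀ fun Q hQ => by
      obtain ⟨M, hM, hQM⟩ := Ideal.exists_le_maximal Q hQ.ne_top
      suffices M ≤ Q from (le_antisymm hQM this) ▸ hM
      let pM : PrimeSpectrum Γ(Fx, U.1) := ⟨M, hM.isPrime⟩
      let w := U.2.fromSpec pM
      have hwU : w ∈ U.1 := U.2.range_fromSpec.le ⟨_, rfl⟩
      have hwc : IsClosed ({w} : Set Fx) :=
        (Set.ext_iff.1 U.2.fromSpec.isOpenEmbedding.preimage_closedPoints pM).2
          ((PrimeSpectrum.isClosed_singleton_iff_isMaximal pM).2 hM)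
      have hpr : U.2.primeIdealOf ⟨w, hwU⟩ = pM :=
        U.2.fromSpec.isOpenEmbedding.injective (U.2.fromSpec_primeIdealOf ⟨w, hwU⟩)
      intro g hg
      let := TopCat.Presheaf.algebra_section_stalk Fx.presheaf (⟨w, hwU⟩ : U.1)
      haveI : IsLocalization.AtPrime (Fx.presheaf.stalk w) M := by
        have := U.2.isLocalization_stalk ⟨w, hwU⟩
        rwa [hpr] at this
      have h0 : algebraMap Γ(Fx, U.1) (Fx.presheaf.stalk w) (g ^ d) = 0 := by
        rw [← Ideal.mem_bot, ← key w hwc, map_pow]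
        exact Ideal.pow_mem_pow ((IsLocalization.AtPrime.to_map_mem_maximal_iff _ M g).mpr hg) d
      obtain ⟨t, ht⟩ := (IsLocalization.map_eq_zero_iff M.primeCompl _ _).mp h0
      rcases hQ.mem_or_mem (ht ▸ Q.zero_mem : (t : Γ(Fx, U.1)) * g ^ d ∈ Q) with h | h
      · exact absurd (hQM h) t.2
      · exact hQ.mem_of_pow_mem _ h
    exact isArtinianRing_iff_krullDimLE_zero.mpr inferInstance⟩
  haveI : CompactSpace Fx := by
    have : TopologicalSpace.NoetherianSpace Fx :=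
      i.isEmbedding.isInducing.noetherianSpace
    infer_instance
  haveI : IsArtinianScheme Fx := ⟨⟩
  exact ⟨inferInstance, inferInstance⟩

end Groth.Agent.FixFrob99
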