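import Groth.Prelude.Def_Frob
import Mathlib.AlgebraicGeometry.Morphisms.Affine
import Mathlib.FieldTheory.IsAlgClosed.Basic

/-!
Powers of the geometric Frobenius take values in the powers of sections.
-/

set_option autoImplicit false
set_option linter.style.haveILetI false

universe u

open CategoryTheory CategoryTheory.Limits AlgebraicGeometry

namespace Groth.Agent.FixFrob99

variable (p : ℕ) [Fact p.Prime]

theorem frob_appLE (X : Scheme.{u}) [FrobSch.IsCharP X p] (U : X.Opens) (h : U ≤ FrobSch.frob X p ⁻¹ᵁ U) (s) :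
    (FrobSch.frob X p).appLE U U h s = s ^ p := by
  show X.presheaf.map (𝟙 (Opposite.op U)) ((FrobSch.frob X p).app U s) = _
  rw [X.presheaf.map_id, FrobSch.frob_app]
  rfl

theorem frob_pow_app (X : Scheme.{u}) [FrobSch.IsCharP X p] (m : ℕ) (U : X.Opens) :
    ∃ h : U ≤ (End.asHom (End.of (FrobSch.frob X p) ^ m)) ⁻¹ᵁ U,
      ∀ s, (End.asHom (End.of (FrobSch.frob X p) ^ m)).appLE U U h s = s ^ (p ^ m) := by
  induction m with
  | zero =>
    have e : End.asHom (End.of (FrobSch.frob X p) ^ 0) = 𝟙 X := rfl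
    rw [e]
    refine ⟨le_rfl, fun s => ?_⟩
    show X.presheaf.map (𝟙 (Opposite.op U)) s = _
    rw [X.presheaf.map_id, pow_zero, pow_one]
    rfl
  | succ m ih =>
    have e : End.asHom (End.of (FrobSch.frob X p) ^ (m + 1)) =
        FrobSch.frob X p ≫ End.asHom (End.of (FrobSch.frob X p) ^ m) := by
      rw [pow_succ]; rfl
    rw [e]
    obtain ⟨h, hs⟩ := ih
    refine ⟨fun x hx => h hx, fun s => ?_⟩
    rw [← Scheme.Hom.appLE_comp_appLE (FrobSch.frob X p) (End.asHom (End.of (FrobSch.frob X p) ^ m)) U U U h le_rfl,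
      CommRingCat.comp_apply, hs, map_pow, frob_appLE, ← pow_mul, pow_succ, mul_comm]

/-- Ring maps into a ring generated by two images land in a subring containing both. -/
theorem mem_of_isPushout {A B₁ B₂ P : CommRingCat.{u}} {f : A ⟶ B₁} {g : A ⟶ B₂} {a : B₁ ⟶ P} {b : B₂ ⟶ P}
    (h : IsPushout f g a b) (S : Subring P) (ha : ∀ x, a x ∈ S) (hb : ∀ x, b x ∈ S) (x : P) : x ∈ S := by
  let a' : B₁ ⟶ CommRingCat.of S := CommRingCat.ofHom (a.hom.codRestrict S ha)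
  let b' : B₂ ⟶ CommRingCat.of S := CommRingCat.ofHom (b.hom.codRestrict S hb)
  let i : CommRingCat.of S ⟶ P := CommRingCat.ofHom S.subtype
  have hw : f ≫ a' = g ≫ b' := by
    ext z
    exact congrArg (fun r => r.hom z) h.w
  have e : h.desc a' b' hw ≫ i = 𝟙 P := h.hom_ext
    (by rw [← Category.assoc, h.inl_desc]; ext z; rfl) (by rw [← Category.assoc, h.inr_desc]; ext z; rfl)
  have := congrArg (fun r => r.hom x) e
  change (h.desc a' b' hw x).1 = x at this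
  exact this ▸ (h.desc a' b' hw x).2

variable {C C₀ : Scheme.{u}} {k₀ : Type u} [Field k₀] {K : Type u} [Field K] [Algebra k₀ K]
  [IsAlgClosed K] {f₀ : C₀ ⟶ Spec (CommRingCat.of k₀)} [FrobSch.IsCharP C₀ p]
  {πC₀ : C ⟶ C₀} {πK : C ⟶ Spec (CommRingCat.of K)}

/-- Sections pulled back by a power of the geometric Frobenius are powers. -/
theorem appLE_mem_powers (hC : IsPullback πC₀ πK f₀ (Spec.map (CommRingCat.ofHom (algebraMap k₀ K))))
    (m : ℕ) (Fr : C ⟶ C) (hFr₀ : Fr ≫ πC₀ = πC₀ ≫ End.asHom (End.of (FrobSch.frob C₀ p) ^ m))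
    (hFrK : Fr ≫ πK = πK) (V : C₀.Opens) (hV : IsAffineOpen V) :
    ∃ (_ : IsAffineOpen (πC₀ ⁻¹ᵁ V)) (h : πC₀ ⁻¹ᵁ V ≤ Fr ⁻¹ᵁ πC₀ ⁻¹ᵁ V),
      ∀ s, ∃ r, Fr.appLE (πC₀ ⁻¹ᵁ V) (πC₀ ⁻¹ᵁ V) h s = r ^ (p ^ m) := by
  haveI : IsAffineHom πC₀ := MorphismProperty.of_isPullback (P := @IsAffineHom) hC.flip inferInstance
  let W := πC₀ ⁻¹ᵁ V
  have hW : IsAffineOpen W := hV.preimage πC₀
  obtain ⟨hVV, hpow⟩ := frob_pow_app p C₀ m V
  have hWW : W ≤ Fr ⁻¹ᵁ W := by
    show W ≤ (Fr ≫ πC₀) ⁻¹ᵁ V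
    rw [hFr₀]
    exact fun x hx => hVV hx
  refine ⟨hW, hWW, ?_⟩
  haveI : FrobSch.IsCharP C p := FrobSch.IsCharP.of_hom πC₀ p
  obtain ⟨hW', hpowW⟩ := frob_pow_app p C m W
  let T : Subring Γ(C, W) := ((End.asHom (End.of (FrobSch.frob C p) ^ m)).appLE W W hW').hom.range
  have hT : ∀ r, r ^ (p ^ m) ∈ T := fun r => ⟨r, hpowW r⟩
  suffices H : ∀ s, s ∈ T.comap (Fr.appLE W W hWW).hom by
    intro s
    obtain ⟨r, hr⟩ := H s
    exact ⟨r, hr.symm.trans (hpowW r)⟩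
  haveI : IsAffine V.toScheme := hV
  have hsq : IsPullback (πC₀ ∣_ V) (W.ι ≫ πK) (V.ι ≫ f₀) (Spec.map (CommRingCat.ofHom (algebraMap k₀ K))) :=
    (isPullback_morphismRestrict πC₀ V).paste_vert hC
  have hpo := isPushout_appTop_of_isPullback hsq
  intro s
  let S' : Subring Γ(W.toScheme, ⊤) := (T.comap (Fr.appLE W W hWW).hom).comap W.topIso.hom.hom
  have hS' := mem_of_isPushout hpo S' ?_ ?_ (W.topIso.inv s)
  · have e : W.topIso.hom (W.topIso.inv s) = s := by rw [← CommRingCat.comp_apply, Iso.inv_hom_id]; rfl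
    change W.topIso.hom (W.topIso.inv s) ∈ T.comap (Fr.appLE W W hWW).hom at hS'
    rwa [e] at hS'
  · intro x
    show Fr.appLE W W hWW (W.topIso.hom ((πC₀ ∣_ V).appTop x)) ∈ T
    have e : W.topIso.hom ((πC₀ ∣_ V).appTop x) = πC₀.appLE V W le_rfl (V.topIso.hom x) := by
      rw [← CommRingCat.comp_apply, ← CommRingCat.comp_apply]
      congr 2
      simp [Scheme.Opens.topIso, Scheme.Hom.app_eq_appLE, Scheme.Hom.map_appLE, Scheme.Hom.appLE_map]
      erw [Scheme.Hom.appLE_map, Scheme.Hom.map_appLE]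
    rw [e, ← CommRingCat.comp_apply, Scheme.Hom.appLE_comp_appLE]
    simp only [hFr₀]
    rw [← Scheme.Hom.appLE_comp_appLE πC₀ (End.asHom (End.of (FrobSch.frob C₀ p) ^ m)) V V W hVV le_rfl,
      CommRingCat.comp_apply, hpow, map_pow]
    exact hT _
  · intro x
    show Fr.appLE W W hWW (W.topIso.hom ((W.ι ≫ πK).appTop x)) ∈ T
    have e : W.topIso.hom ((W.ι ≫ πK).appTop x) = πK.appLE ⊤ W le_top x := by
      rw [← CommRingCat.comp_apply]
      congr 2
      simp [Scheme.Opens.topIso, Scheme.Hom.appLE]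
      congr 1
      erw [← Functor.map_comp]
      rfl
    rw [e, ← CommRingCat.comp_apply, Scheme.Hom.appLE_comp_appLE]
    simp only [hFrK]
    let ε := (Scheme.ΓSpecIso (CommRingCat.of K))
    obtain ⟨r, hr⟩ := IsAlgClosed.exists_pow_nat_eq (ε.hom x) (pow_pos (Fact.out : p.Prime).pos m)
    have hx : x = (ε.inv r) ^ (p ^ m) := by
      rw [← map_pow, hr, ← CommRingCat.comp_apply, Iso.hom_inv_id]; rfl
    rw [hx, map_pow]
    exact hT _

end Groth.Agent.FixFrob99
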